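import Cfsg.Agent.PSL2Rec.FromTI
import Cfsg.Agent.Perm2.SimpleCent
import Cfsg.Agent.Zass.Mk

/-!
# Simple Zassenhaus groups with a two-point stabiliser of odd order
-/

set_option autoImplicit false
set_option linter.unusedSectionVars false

namespace Cfsg.Agent.Zass

open Cfsg.Agent.Char MulAction Subgroup PSL2Rec

variable {G Ω : Type*} [Group G] [MulAction G Ω] [Finite G] [Finite Ω] {a b : Ω}

theorem mem_stab_of_odd {x : G} (hx : x ∈ pairStab G a b) (ho : Odd (orderOf x)) :
    x ∈ stabilizer G a ⊓ stabilizer G b := by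
  have h2 : x ^ 2 ∈ stabilizer G a ⊓ stabilizer G b := by
    rcases hx with ⟨h1, h2⟩ | ⟨h1, h2⟩ <;>
      simp only [mem_inf, mem_stabilizer_iff, sq, mul_smul, h1, h2, and_self]
  obtain ⟨m, hm⟩ := ho
  have : x = (x ^ 2) ^ (m + 1) := by
    rw [← pow_mul, show 2 * (m + 1) = orderOf x + 1 by omega, pow_succ, pow_orderOf_eq_one, one_mul]
  rw [this]
  exact pow_mem h2 _

theorem mem_pairStab_of_conj (h3 : NoThreeFixed G Ω) (hab : a ≠ b) {x g : G} (hx1 : x ≠ 1)
    (hx : x ∈ stabilizer G a ⊓ stabilizer G b)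
    (hg : g⁻¹ * x * g ∈ stabilizer G a ⊓ stabilizer G b) : g ∈ pairStab G a b := by
  have key : ∀ c, (g⁻¹ * x * g) • c = c → g • c = a ∨ g • c = b := by
    intro c hc
    by_contra hn
    push Not at hn
    rw [mul_smul, mul_smul, inv_smul_eq_iff] at hc
    exact hx1 (h3 x a b (g • c) hab hn.2.symm hn.1.symm hx.1 hx.2 hc)
  have hne : g • a ≠ g • b := fun h => hab (MulAction.injective g h)
  rcases key a hg.1 with h1 | h1 <;> rcases key b hg.2 with h2 | h2
  · exact absurd (h1.trans h2.symm) hne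
  · exact Or.inl ⟨h1, h2⟩
  · exact Or.inr ⟨h1, h2⟩
  · exact absurd (h1.trans h2.symm) hne

theorem zass_odd (hZ : IsZassenhausGroup G Ω) [IsSimpleGroup G] (hab : a ≠ b)
    (hodd : Odd (Nat.card ↥(stabilizer G a ⊓ stabilizer G b))) :
    IsCyclic ↥(stabilizer G a ⊓ stabilizer G b) ∧
      ∃ v : G, orderOf v = 2 ∧ v • a = b ∧ v • b = a ∧
        ∀ h ∈ stabilizer G a ⊓ stabilizer G b, v * h * v⁻¹ = h⁻¹ := by
  obtain ⟨P, w, h, hP⟩ := exists_zdata hZ hab
  have he := zass_one_lt_card hZ hab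
  have hdvd := hP.card_dvd hZ.2.2.1 hab.symm
  have hN := h.card_pairStab
  have hG := h.card_eq
  set H := stabilizer G a ⊓ stabilizer G b with hH
  set N := pairStab G a b with hNd
  have hHN : H ≤ N := fun k hk => Or.inl hk
  obtain ⟨z, hz, hz1⟩ := (bot_or_exists_ne_one H).resolve_left ((one_lt_card_iff_ne_bot _).mp he)
  have hPb : P ≠ ⊥ := by
    rintro rfl
    apply hz1
    have := hZ.1
    apply eq_of_smul_eq_smul (α := Ω)
    intro x
    by_cases hx : x = a
    · rw [hx, one_smul]; exact hz.1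
    · obtain ⟨p, hp, rfl⟩ := h.P_trans x hx
      rw [mem_bot.1 hp, one_smul, one_smul]; exact hz.2
  have hna : ¬ IsMulCommutative G := by
    intro hc
    obtain ⟨p, hp, hp1⟩ := (bot_or_exists_ne_one P).resolve_left hPb
    rcases h.semi z hz p hp (by rw [hc.1.1 z p]; simp) with h1 | h1
    · exact hz1 h1
    · exact hp1 h1
  have hn0 : 0 < Nat.card P := Nat.card_pos
  have hcop : ∀ p : ℕ, p.Prime → p ∣ Nat.card H → ¬ p ∣ Nat.card P ∧ ¬ p ∣ Nat.card P + 1 := by
    intro p hp h1
    have h2 := h1.trans hdvd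
    refine ⟨fun h3 => hp.one_lt.ne' (Nat.eq_one_of_dvd_one ?_), fun h3 => ?_⟩
    · have := Nat.dvd_sub h3 h2
      rwa [show Nat.card P - (Nat.card P - 1) = 1 by omega] at this
    · have := Nat.dvd_sub h3 h2
      rw [show Nat.card P + 1 - (Nat.card P - 1) = 2 by omega,
        Nat.prime_dvd_prime_iff_eq hp Nat.prime_two] at this
      subst this
      exact (Nat.not_even_iff_odd.mpr hodd) (even_iff_two_dvd.mpr h1)
  have key : ∀ (p : ℕ) [Fact p.Prime], p ≠ 2 → ∀ Q : Sylow p N,
      IsCyclic Q ∧ (Q : Subgroup N) ≤ commutator N := by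
    intro p hp hp2 Q
    by_cases hQ : (Q : Subgroup N) = ⊥
    · refine ⟨?_, by rw [hQ]; exact bot_le⟩
      have : Subsingleton Q := by
        rw [← Finite.card_le_one_iff_subsingleton]
        exact (card_eq_one.mpr hQ).le
      infer_instance
    set R := (Q : Subgroup N).map N.subtype with hR
    have hRp : IsPGroup p R := Q.isPGroup'.map _
    have hRH : R ≤ H := by
      intro x hx
      refine mem_stab_of_odd (map_subtype_le _ hx) ?_
      obtain ⟨k, hk⟩ := (IsPGroup.iff_orderOf.mp hRp) ⟨x, hx⟩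
      rw [← orderOf_coe] at hk
      rw [hk]
      exact (hp.out.odd_of_ne_two hp2).pow
    have hRb : R ≠ ⊥ := by
      rwa [hR, Ne, map_eq_bot_iff_of_injective _ N.subtype_injective]
    have hpH : p ∣ Nat.card H :=
      (hRp.card_eq_or_dvd.resolve_left (fun h => hRb (card_eq_one.mp h))).trans (card_dvd_of_le hRH)
    have hRc : IsCyclic R := by
      refine (cyclic_or_quaternion_of_fpf hRp (V := P) (fun x hx => ?_) hPb (hcop p hp.out hpH).1
        (fun c hc hc1 v hv hvc => ?_)).resolve_right (fun h => hp2 h.1)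
      · refine mem_normalizer_iff.mpr (fun y => ⟨h.P_norm x (hRH hx).1 y, fun hy => ?_⟩)
        have := h.P_norm x⁻¹ (H.inv_mem (hRH hx)).1 _ hy
        simpa [mul_assoc] using this
      · exact (h.semi c (hRH hc) v hv (by rw [← hvc]; simp)).resolve_left hc1
    have hQc : IsCyclic Q := isCyclic_of_surjective _
      (equivMapOfInjective (Q : Subgroup N) N.subtype N.subtype_injective).symm.surjective
    refine ⟨hQc, Q.normalizer_le_centralizer_or_le_commutator.resolve_left (fun hle => ?_)⟩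
    have hind : ¬ p ∣ R.index := by
      rw [hR, index_map_subtype, hp.out.dvd_mul]
      rintro (h1 | h1)
      · exact Q.not_dvd_index h1
      · have h2 := N.card_mul_index
        rw [hN, hG] at h2
        have h3 : 2 * N.index = Nat.card P * (Nat.card P + 1) := by
          apply Nat.eq_of_mul_eq_mul_left (show 0 < Nat.card H by omega)
          linarith
        rcases hp.out.dvd_mul.mp (h3 ▸ h1.mul_left 2) with h4 | h4
        · exact (hcop p hp.out hpH).1 h4
        · exact (hcop p hp.out hpH).2 h4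
    refine Perm2.not_normalizer_le_centralizer_of_simple hna (hRp.toSylow hind) hRb ?_
    intro g hg
    change g ∈ normalizer (R : Set G) at hg
    obtain ⟨x, hx, hx1⟩ := (bot_or_exists_ne_one R).resolve_left hRb
    have hgN : g ∈ N := mem_pairStab_of_conj hZ.2.2.1 hab hx1 (hRH hx)
      (hRH (by simpa using (mem_normalizer_iff.mp (inv_mem hg) x).mp hx))
    have h1 : (⟨g, hgN⟩ : N) ∈ normalizer ((Q : Subgroup N) : Set N) := by
      refine mem_normalizer_iff.mpr (fun y => ?_)
      rw [← mem_map_iff_mem (f := N.subtype) N.subtype_injective,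
        ← mem_map_iff_mem (f := N.subtype) N.subtype_injective]
      exact mem_normalizer_iff.mp hg y
    rintro _ ⟨y, hy, rfl⟩
    exact congrArg Subtype.val (hle h1 y hy)
  have hZg : IsZGroup N := by
    refine ⟨fun p hp Q => ?_⟩
    have : Fact p.Prime := ⟨hp⟩
    by_cases hp2 : p = 2
    · subst hp2
      refine isCyclic_of_card_dvd_prime (p := 2) ?_
      obtain ⟨k, hk⟩ := Q.isPGroup'.exists_card_eq
      have h1 := (Q : Subgroup N).card_subgroup_dvd_card
      rw [hN] at h1
      refine Nat.Coprime.dvd_of_dvd_mul_right ?_ h1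
      rw [hk]
      exact (Nat.coprime_two_left.mpr hodd).pow_left _
    · exact (key p hp2 Q).1
  have hle : H.subgroupOf N ≤ commutator N := by
    intro x hx
    rw [← QuotientGroup.eq_one_iff, ← orderOf_eq_one_iff]
    by_contra h1
    obtain ⟨p, hp, hpd⟩ := Nat.exists_prime_and_dvd h1
    have : Fact p.Prime := ⟨hp⟩
    have h2 : p ∣ Nat.card H := by
      refine hpd.trans ((orderOf_map_dvd (QuotientGroup.mk' (commutator N)) x).trans ?_)
      rw [← orderOf_coe]
      exact Local.orderOf_dvd_card_of_mem hx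
    obtain ⟨Q⟩ : Nonempty (Sylow p N) := inferInstance
    refine Q.not_dvd_index ((hpd.trans (orderOf_dvd_natCard _)).trans
      (index_dvd_of_le (key p ?_ Q).2))
    rintro rfl
    exact (Nat.not_even_iff_odd.mpr hodd) (even_iff_two_dvd.mpr h2)
  have hc1 : IsCyclic (H.subgroupOf N) :=
    have := IsZGroup.isCyclic_commutator N
    Subgroup.isCyclic_of_le hle
  have hc2 : IsCyclic H := isCyclic_of_surjective _ (subgroupOfEquivOfLe hHN).surjective
  refine ⟨hc2, ?_⟩
  obtain ⟨v, hv, hv2⟩ := Local.exists_mem_orderOf_eq_of_dvd_card (H := N)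
    Nat.prime_two (by rw [hN]; exact dvd_mul_right _ _)
  have hvv : v * v = 1 := by rw [← pow_two, ← hv2, pow_orderOf_eq_one]
  rcases id hv with hv' | ⟨hva, hvb⟩
  · have := Local.orderOf_dvd_card_of_mem (H := H) hv'
    rw [hv2] at this
    exact absurd (even_iff_two_dvd.2 this) (Nat.not_even_iff_odd.2 hodd)
  refine ⟨v, hv2, hva, hvb, inverts_of_fpf hvv (fun k hk => ⟨?_, ?_⟩) fun k hk hc => ?_⟩
  · change (v * k * v⁻¹) • a = a
    rw [mul_smul, mul_smul, show v⁻¹ • a = b from inv_smul_eq_iff.2 hvb.symm,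
      show k • b = b from hk.2, hvb]
  · change (v * k * v⁻¹) • b = b
    rw [mul_smul, mul_smul, show v⁻¹ • b = a from inv_smul_eq_iff.2 hva.symm,
      show k • a = a from hk.1, hva]
  have hcomm : ∀ x ∈ H, x * k = k * x := fun x hx =>
    congrArg Subtype.val (hc2.isMulCommutative.1.1 ⟨x, hx⟩ ⟨k, hk⟩)
  have hcent : ∀ g : N, (g : G) * k = k * g := by
    rintro ⟨g, hg | ⟨h1, h2⟩⟩
    · exact hcomm g hg
    · have h3 : v * g ∈ H := ⟨by change (v * g) • a = a; rw [mul_smul, h1, hvb],
        by change (v * g) • b = b; rw [mul_smul, h2, hva]⟩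
      have h4 := hcomm _ h3
      rw [← mul_assoc, ← hc.eq, mul_assoc, mul_assoc] at h4
      exact mul_left_cancel h4
  let _ : CommGroup (H.subgroupOf N) := hc1.commGroup
  have h1 := MonoidHom.transfer_eq_pow (MonoidHom.id (H.subgroupOf N)) (⟨k, hHN hk⟩ : N)
    (fun n g _ => by
      have : Commute g (⟨k, hHN hk⟩ : N) := Subtype.ext (hcent g)
      rw [mul_assoc, ← (this.pow_right n).eq, inv_mul_cancel_left])
  have h2 := Abelianization.commutator_subset_ker
    (MonoidHom.transfer (MonoidHom.id (H.subgroupOf N))) (hle (show (⟨k, hHN hk⟩ : N) ∈ _ from hk))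
  rw [MonoidHom.mem_ker, h1] at h2
  have h3 : k ^ (H.subgroupOf N).index = 1 := congrArg (fun x : H.subgroupOf N => ((x : N) : G)) h2
  have h4 : (H.subgroupOf N).index = 2 := by
    have := Local.card_mul_relIndex hHN
    rw [hN, mul_comm] at this
    exact Nat.eq_of_mul_eq_mul_right (by omega) this
  rw [h4] at h3
  rw [← orderOf_eq_one_iff]
  exact Nat.eq_one_of_dvd_coprimes (Nat.coprime_two_left.mpr hodd) (orderOf_dvd_of_pow_eq_one h3)
    (Local.orderOf_dvd_card_of_mem hk)

theorem exists_data_of_odd (hZ : IsZassenhausGroup G Ω) [IsSimpleGroup G] (hab : a ≠ b)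
    {K : Subgroup G} (hK : IsZKernel a K)
    (hodd : Odd (Nat.card ↥(stabilizer G a ⊓ stabilizer G b))) :
    ∃ D : ZData G Ω, D.a = a ∧ D.b = b ∧ D.K = K ∧ D.H = stabilizer G a ⊓ stabilizer G b := by
  obtain ⟨-, v, hv, hva, -, hinv⟩ := zass_odd hZ hab hodd
  exact ⟨mkData hZ hab hK hv hva hinv hodd, rfl, rfl, rfl, rfl⟩

end Cfsg.Agent.Zass
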