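import Cfsg.Agent.Zass.Final
import Cfsg.Agent.Zass.OddH
import Cfsg.Agent.Local.FpfNil

/-!
# The classification of simple Zassenhaus groups
-/

set_option autoImplicit false

namespace Cfsg.Agent.Zass

open Cfsg.Agent.Char MulAction

variable {G Ω : Type*} [Group G] [MulAction G Ω]

theorem ZData.isNilpotent [Finite G] (D : ZData G Ω) : Group.IsNilpotent D.K :=
  have : Nontrivial D.H := Finite.one_lt_card_iff_nontrivial.mp D.nontriv
  Local.isNilpotent_of_fpf_action D.fpf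

/-- Simple Zassenhaus groups: `PSL₂` over a field with `|Ω| - 1` elements, or Suzuki parameters. -/
theorem simple_zass [Finite G] [Finite Ω] (hZ : IsZassenhausGroup G Ω) [IsSimpleGroup G] :
    (∃ (F : Type) (_ : Field F) (_ : Fintype F), Fintype.card F + 1 = Nat.card Ω ∧
      Nonempty (G ≃* Matrix.ProjectiveSpecialLinearGroup (Fin 2) F)) ∨
    ∃ k, 1 ≤ k ∧ Nat.card Ω = (2 ^ (2 * k + 1)) ^ 2 + 1 ∧
      Nat.card G = (2 ^ (2 * k + 1)) ^ 2 * ((2 ^ (2 * k + 1)) ^ 2 + 1) * (2 ^ (2 * k + 1) - 1) := by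
  have := Fintype.ofFinite G
  have := hZ.1
  obtain ⟨a, b, hab⟩ : ∃ a b : Ω, a ≠ b := by
    obtain ⟨-, -, -, ⟨-, -, c, d, hcd, -⟩, -⟩ := hZ
    exact ⟨c, d, hcd⟩
  rcases Nat.even_or_odd (Nat.card ↥(stabilizer G a ⊓ stabilizer G b)) with heven | hodd
  · left
    obtain ⟨P, v, h, hP, -, h1, hi, hc⟩ := PSL2Rec.zass_even hZ hab heven
    have hpos : 0 < Nat.card ↥(stabilizer G a ⊓ stabilizer G b) := Nat.card_pos
    obtain ⟨p, hp, hp1⟩ : ∃ p ∈ P, p ≠ 1 := (Subgroup.bot_or_exists_ne_one P).resolve_left (by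
      rw [← Ne, ← Subgroup.one_lt_card_iff_ne_bot]
      omega)
    obtain ⟨F, _, _, hF⟩ := PSL2Rec.exists_field_of_card h.norm h.semi h1.ge
      (Char.comm_of_inverts hi) hp hp1 (fun x hx => hc x hx p hp)
    have h3 : 3 < Fintype.card F := by
      obtain ⟨m, hm⟩ := heven
      omega
    refine ⟨F, inferInstance, inferInstance, by rw [hF, hP.card], ?_⟩
    rcases h.recognition hF h3 (Char.comm_of_inverts hi) le_rfl h1.ge hi hp hp1
      (fun x hx => hc x hx p hp) with ⟨-, -, h2⟩ | ⟨h2, -⟩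
    · omega
    · exact h2
  · obtain ⟨K, hK⟩ := exists_isZKernel hZ.2.1 hZ.2.2.1 hab
    obtain ⟨D, -, -, -, -⟩ := exists_data_of_odd hZ hab hK hodd
    have := D.isNilpotent
    rcases D.classify with ⟨F, _, _, h1, h2⟩ | ⟨k, hk, h1, h2⟩
    · exact Or.inl ⟨F, inferInstance, inferInstance, by rw [h1, D.hK.card], h2⟩
    · exact Or.inr ⟨k, hk, by rw [← h1, D.hK.card], ZData.card_suzuki h1 h2⟩

end Cfsg.Agent.Zass
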